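import Groth.Agent.L07.GeomRk.Open
import Groth.Agent.L07.TransCM
import Groth.Agent.L06.Hartshorne
import Groth.Agent.L03.Catenary
import Groth.Agent.L06.DimLftJacobson
import Groth.Agent.L17.StalkGen
import Groth.Prelude.Def_RelCanon
import Groth.Prelude.Def_Cyc

/-!
Openness of `(Sₖ)` with pure dimension and codimension bounds along the fibres of a flat morphism.
-/

set_option autoImplicit false
set_option linter.style.haveILetI false
set_option maxSynthPendingDepth 3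
set_option backward.isDefEq.respectTransparency false
universe u

open CategoryTheory CategoryTheory.Limits AlgebraicGeometry Topology
open L02.FibDepth Groth.L07.GeomRk

namespace Groth.L13.FibSk

variable {X Y : Scheme.{u}} (f : X ⟶ Y) [LocallyOfFinitePresentation f]

theorem isNoetherianRing_FR (x : X) : IsNoetherianRing (FR f x) := by
  haveI : LocallyOfFiniteType (f.fiberToSpecResidueField (f.base x)) := inferInstance
  haveI := LocallyOfFiniteType.isLocallyNoetherian (f.fiberToSpecResidueField (f.base x))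
  exact inferInstance

theorem skAt_iff (x : X) (k : ℕ) :
    RelCanon.SkAt k (Coh.structureModule (f.fiber (f.base x))) (f.asFiber x) ↔ (rd f).SkOK k x := by
  haveI := isNoetherianRing_FR f x
  refine Iff.trans ?_ (hasSk_iff_model (hasCharts₀_ring f) x k)
  let e := Groth.L17.StalkGen.e (f.fiber (f.base x)) (f.asFiber x)
  let E : Semi (FR f x) (FR f x) (FR f x)
      ((Coh.structureModule (f.fiber (f.base x))).presheaf.stalk (f.asFiber x)) :=
    { φ := RingHom.id _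
      surj := Function.surjective_id
      e := e.toAddEquiv
      map_smul := fun r m => e.map_smul r m }
  exact (E.hasSk_iff k).symm

theorem isCatenary_stalk {k : Type u} [Field k] {F : Scheme.{u}} (g : F ⟶ Spec (CommRingCat.of k))
    [LocallyOfFiniteType g] (w : F) : CAlg.IsCatenary (F.presheaf.stalk w) := by
  obtain ⟨_, ⟨W, hW, rfl⟩, hwW, -⟩ := F.isBasis_affineOpens.exists_subset_of_mem_open
    (Set.mem_univ w) isOpen_univ
  have hle : W ≤ g ⁻¹ᵁ (⊤ : (Spec (CommRingCat.of k)).Opens) := le_top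
  have h1 : (g.appLE ⊤ W hle).hom.FiniteType :=
    LocallyOfFiniteType.finiteType_appLE g (isAffineOpen_top _) hW hle
  letI : Algebra k Γ(F, W) :=
    ((g.appLE ⊤ W hle).hom.comp (Scheme.ΓSpecIso (CommRingCat.of k)).inv.hom).toAlgebra
  haveI : Algebra.FiniteType k Γ(F, W) := RingHom.FiniteType.comp h1
    (RingHom.FiniteType.of_surjective _ (Scheme.ΓSpecIso (CommRingCat.of k)).symm.commRingCatIsoToRingEquiv.surjective)
  haveI : IsNoetherianRing Γ(F, W) := Algebra.FiniteType.isNoetherianRing k _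
  have hc : CAlg.IsCatenary Γ(F, W) :=
    Groth.L03.Catenary.isCatenary_of_essFiniteType
      (Groth.L06.DimLftJacobson.isUniversallyCatenary_of_regularLocal k) _
  letI := F.presheaf.algebra_section_stalk ⟨w, hwW⟩
  haveI : IsLocalization.AtPrime (F.presheaf.stalk w) (hW.primeIdealOf ⟨w, hwW⟩).asIdeal :=
    hW.isLocalization_stalk ⟨w, hwW⟩
  exact Groth.L03.Catenary.isCatenary_localization (hW.primeIdealOf ⟨w, hwW⟩).asIdeal.primeCompl _ hc

theorem isCatenary_FR (x : X) : CAlg.IsCatenary (FR f x) :=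
  isCatenary_stalk (k := Y.residueField (f.base x)) (f.fiberToSpecResidueField (f.base x)) (f.asFiber x)

theorem equi_of_skOK {k : ℕ} (hk : 2 ≤ k) {x : X} (h : (rd f).SkOK k x) : (rd f).Equi x := by
  haveI := isNoetherianRing_FR f x
  have h2 : (rd f).SkOK 2 x := fun z hz hzx hp => le_trans (min_le_min_right _ hk) (h z hz hzx hp)
  exact (equi_ring_iff f x).1 (Groth.L06.Hartshorne.equidim_of_catenary (isCatenary_FR f x)
    (Groth.L06.Hartshorne.depth_of_hasSk ((hasSk_iff_model (hasCharts₀_ring f) x 2).2 h2)))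

/-- All the components through generisations of a point have dimension `e`. -/
def PureAt (e : ℕ) (x : X) : Prop := ∀ z ∈ (rd f).Ass, z ⤳ x → f z = f x → (rd f).δ z ∈ ({e} : Set ℕ)

theorem sum_eq_of_pureAt {e : ℕ} {x z : X} (h : PureAt f e x) (hzx : z ⤳ x) (hp : f z = f x) :
    (rd f).b z + (rd f).δ z = e := by
  obtain ⟨w, hw, hwz, hpw, hb, hd⟩ := (rd f).exists_min_gen (mem_S f z)
  rw [← hd]
  exact h w ((rd f).mem_Ass_of_b_eq_zero hw hb) (hwz.trans hzx) (hpw.trans hp)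

theorem pureAt_self {k : ℕ} (hk : 1 ≤ k) {x : X} (he : (rd f).Equi x) (hs : (rd f).SkOK k x) :
    PureAt f ((rd f).b x + (rd f).δ x) x := by
  intro z hz hzx hp
  refine he z hz.1 hzx hp ?_
  have := hs z hz.1 hzx hp
  have := hz.2
  omega

variable [Flat f]

/-- The open of good points. -/
theorem exists_good {k : ℕ} (hk : 2 ≤ k) {y : X} (hy : (rd f).SkOK k y) (Z : Set X) (hZ : IsClosed Z)
    (c : WithBot ℕ∞) (hc : ∀ z ∈ Z, z ⤳ y → f z = f y → c ≤ ((rd f).b z : WithBot ℕ∞)) :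
    ∃ (U : X.Opens) (e : ℕ), y ∈ U ∧ ∀ x ∈ U, (rd f).SkOK k x ∧ PureAt f e x ∧
      (x ∈ Z → c ≤ ((rd f).b x : WithBot ℕ∞)) := by
  classical
  let D := data (hasCharts_ring f)
  have he := equi_of_skOK f hk hy
  let e := (rd f).b y + (rd f).δ y
  have hpure : PureAt f e y := pureAt_self f (show 1 ≤ k by omega) he hy
  let s := (Finset.range (e + 1)).filter fun n => ¬ c ≤ ((e - n : ℕ) : WithBot ℕ∞)
  let B : Set X := ⋃ n ∈ s, LD (fun x : X => f x) (rd f).δ Z n
  have hB : IsClosed B := s.finite_toSet.isClosed_biUnion fun n _ => (rd f).isClosed_LD _ hZ n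
  have hO : IsOpen ({x | (rd f).Equi x ∧ (rd f).SkOK k x} ∩ {x | PureAt f e x} ∩ Bᶜ) :=
    ((D.isOpen_equi_sk (show 1 ≤ k by omega)).inter (D.isOpen_ass_dim ({e} : Set ℕ))).inter hB.isOpen_compl
  refine ⟨⟨_, hO⟩, e, ⟨⟨⟨he, hy⟩, hpure⟩, ?_⟩, ?_⟩
  · intro h
    obtain ⟨n, hn, z, hz, hzy, hp, hd⟩ := Set.mem_iUnion₂.1 h
    refine (Finset.mem_filter.1 hn).2 ((hc z hz hzy hp).trans ?_)
    have := sum_eq_of_pureAt f hpure hzy hp
    exact_mod_cast (show (rd f).b z ≤ e - n by omega)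
  · rintro x ⟨⟨⟨-, hx⟩, hxp⟩, hxB⟩
    refine ⟨hx, hxp, fun hxZ => ?_⟩
    by_contra hlt
    have := sum_eq_of_pureAt f hxp (specializes_refl x) rfl
    exact hxB (Set.mem_iUnion₂.2 ⟨(rd f).δ x, Finset.mem_filter.2 ⟨Finset.mem_range.2 (by omega),
      by rwa [show e - (rd f).δ x = (rd f).b x by omega]⟩, x, hxZ, specializes_refl x, rfl, le_rfl⟩)

omit [Flat f] in
theorem b_eq_zero_of_maximal {t : Y} {T : Set ↥(f.fiber t)} (hT : T ∈ irreducibleComponents ↥(f.fiber t))
    {w : ↥(f.fiber t)} (hw : IsGenericPoint w T) : (rd f).b (f.fiberι t w) = 0 := by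
  obtain ⟨v, hv, hvu, hp, hb, hd⟩ := (rd f).exists_min_gen (mem_S f (f.fiberι t w))
  obtain ⟨v', rfl⟩ := (f.range_fiberι t).ge
    (show v ∈ f ⁻¹' {t} from hp.trans ((f.range_fiberι t).subset ⟨w, rfl⟩))
  have hvw : v' ⤳ w := (f.fiberι t).isEmbedding.isInducing.specializes_iff.1 hvu
  have hle : T ⊆ closure {v'} := hw.def ▸ closure_minimal (Set.singleton_subset_iff.2 hvw.mem_closure) isClosed_closure
  have : v' = w := hvw.antisymm (specializes_iff_mem_closure.2
    (hw.def.symm ▸ hT.2 isIrreducible_singleton.closure hle (subset_closure rfl))) |>.eq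
  subst this
  exact hb

omit [Flat f] in
theorem dim_FR_congr {U : X.Opens} (u : U) :
    haveI : LocallyOfFinitePresentation (U.ι ≫ f) := inferInstance
    (rd (U.ι ≫ f)).b u = (rd f).b (U.ι u) := by
  obtain ⟨e⟩ := Groth.L07.TransCM.exists_fibreStalk_comp_equiv f U.ι u
  have h := ringKrullDim_eq_of_ringEquiv e
  have h1 : ringKrullDim (CInt.fiberStalk (U.ι ≫ f) u) = ((rd (U.ι ≫ f)).b u : WithBot ℕ∞) := dim_FR (U.ι ≫ f) u
  have h2 : ringKrullDim (CInt.fiberStalk f (U.ι u)) = ((rd f).b (U.ι u) : WithBot ℕ∞) := dim_FR f (U.ι u)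
  exact_mod_cast (h1.symm.trans h).trans h2

omit [Flat f] in
theorem dim_closure_congr {U : X.Opens} (u : U) :
    topologicalKrullDim ↥(closure ({(U.ι ≫ f).asFiber u} : Set ↥((U.ι ≫ f).fiber ((U.ι ≫ f) u)))) =
      ((rd f).δ (U.ι u) : WithBot ℕ∞) := by
  rw [dim_closure_asFiber (U.ι ≫ f) u]
  refine Eq.trans ?_ (dim_closure_asFiber_eq (hasCharts₀_ring f) (U.ι u))
  rw [dim_closure_asFiber_inter f (U.ι u) (U := U) u.2]
  have he := U.ι.isOpenEmbedding.isEmbedding
  refine (Groth.L22.SchemeDim.topologicalKrullDim_eq_of_isEmbedding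
    (f := fun v : (closure ({u} : Set U) ∩ (U.ι ≫ f) ⁻¹' {(U.ι ≫ f) u} : Set _) => U.ι v.1)
    (he.comp IsEmbedding.subtypeVal) ?_).symm
  rw [Set.range_comp', Subtype.range_coe, he.isInducing.closure_eq_preimage_closure_image, Set.image_singleton]
  ext v
  simp only [Set.mem_image, Set.mem_inter_iff, Set.mem_preimage, Set.mem_singleton_iff]
  constructor
  · rintro ⟨a, ⟨ha, hp⟩, rfl⟩
    exact ⟨⟨ha, hp⟩, a.2⟩
  · rintro ⟨⟨ha, hp⟩, hv⟩
    exact ⟨⟨v, hv⟩, ⟨ha, hp⟩, rfl⟩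

theorem main {k : ℕ} (hk : 2 ≤ k) (y : X)
    (hy : RelCanon.SkAt k (Coh.structureModule (f.fiber (f y))) (f.asFiber y))
    (Yo : X.Opens) (c : WithBot ℕ∞)
    (hc : ∀ z : X, f z = f y → z ∉ Yo → z ⤳ y →
      c ≤ ringKrullDim ((f.fiber (f z)).presheaf.stalk (f.asFiber z))) :
    ∃ U : X.Opens, y ∈ U ∧ RelCanon.IsSkMor (U.ι ≫ f) k ∧
      (∃ e : ℕ, Cyc.HasRelDim (U.ι ≫ f) e) ∧
      ∀ z : X, z ∈ U → z ∉ Yo → c ≤ ringKrullDim ((f.fiber (f z)).presheaf.stalk (f.asFiber z)) := by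
  obtain ⟨U, e, hyU, hU⟩ := exists_good f hk ((skAt_iff f y k).1 hy) (Yo : Set X)ᶜ Yo.2.isClosed_compl c
    fun z hz hzy hp => (hc z hp hz hzy).trans_eq (dim_FR f z)
  refine ⟨U, hyU, ⟨inferInstance, inferInstance, fun u => ?_⟩, ⟨e, fun t T hT => ?_⟩,
    fun z hz hzY => ((hU z hz).2.2 hzY).trans_eq (dim_FR f z).symm⟩
  · haveI := isNoetherianRing_FR f (U.ι u)
    obtain ⟨E⟩ := Groth.L07.TransCM.exists_fibreStalk_comp_equiv f U.ι u
    refine (skAt_iff (U.ι ≫ f) u k).2 ((hasSk_iff_model (hasCharts₀_ring (U.ι ≫ f)) u k).1 ?_)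
    exact Groth.L07.GeomRk.hasSk_congr k E.symm
      ((hasSk_iff_model (hasCharts₀_ring f) (U.ι u) k).2 (hU _ u.2).1)
  · obtain ⟨w, hw⟩ := QuasiSober.sober hT.1 (isClosed_of_mem_irreducibleComponents T hT)
    have hb := b_eq_zero_of_maximal (U.ι ≫ f) hT hw
    rw [dim_FR_congr] at hb
    rw [← hw.def]
    have key := forall_fiber_iff (f := U.ι ≫ f) (P := fun s w =>
      (rd f).b (U.ι ((U.ι ≫ f).fiberι s w)) = 0 →
        topologicalKrullDim ↥(closure ({w} : Set ↥((U.ι ≫ f).fiber s))) = (e : WithBot ℕ∞)) t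
    refine key.2 (fun u _ hb => ?_) w hb
    rw [dim_closure_congr]
    rw [(U.ι ≫ f).fiberι_asFiber] at hb
    have := sum_eq_of_pureAt f (hU _ u.2).2.1 (specializes_refl (U.ι u)) rfl
    exact_mod_cast (show (rd f).δ (U.ι u) = e by omega)

end Groth.L13.FibSk
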